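import Cfsg.Agent.Lib.Classical.SLBasic

/-!
# Two explicit generators of the special linear group
-/

set_option autoImplicit false

namespace CfsgLib.SLTwoGen

open Matrix
open scoped commutatorElement

universe u

variable {K : Type u} [Field K] {n : ℕ}

local notation "SLn" => SpecialLinearGroup (Fin (n + 1)) K

/-- The monomial matrix with ones above the diagonal. -/
def cyc (K : Type u) [Field K] (n : ℕ) : Matrix (Fin (n + 1)) (Fin (n + 1)) K :=
  Matrix.of (fun i j => if j.val = i.val + 1 then 1 else if i.val = n ∧ j.val = 0 then (-1) ^ n else 0)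

theorem cyc_mul_single {a b a' : Fin (n + 1)} (h : a.val = a'.val + 1) (t : K) :
    cyc K n * single a b t = single a' b t := by
  ext x y
  rcases eq_or_ne y b with rfl | hy
  · rw [Matrix.mul_single_apply_same]
    simp only [cyc, Matrix.of_apply, single_apply, and_true]
    rcases eq_or_ne x a' with rfl | hx
    · simp [h]
    · have : x.val ≠ a'.val := fun e => hx (Fin.ext e)
      rw [if_neg (by omega), if_neg (by omega), zero_mul, if_neg (fun e => hx e.symm)]
  · rw [Matrix.mul_single_apply_of_ne _ _ _ _ _ hy, single_apply, if_neg fun e => hy e.2.symm]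

theorem cyc_mul_single_zero {b : Fin (n + 1)} (t : K) :
    cyc K n * single 0 b t = single (Fin.last n) b ((-1) ^ n * t) := by
  ext x y
  rcases eq_or_ne y b with rfl | hy
  · rw [Matrix.mul_single_apply_same]
    simp only [cyc, Matrix.of_apply, single_apply, and_true, Fin.val_zero]
    rcases eq_or_ne x (Fin.last n) with rfl | hx
    · simp
    · have : x.val ≠ n := fun e => hx (Fin.ext e)
      rw [if_neg (by omega), if_neg (by simpa using this), zero_mul, if_neg (fun e => hx e.symm)]
  · rw [Matrix.mul_single_apply_of_ne _ _ _ _ _ hy, single_apply, if_neg fun e => hy e.2.symm]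

theorem single_mul_cyc {a b b' : Fin (n + 1)} (h : b'.val = b.val + 1) (t : K) :
    single a b t * cyc K n = single a b' t := by
  ext x y
  rcases eq_or_ne x a with rfl | hx
  · rw [Matrix.single_mul_apply_same]
    simp only [cyc, Matrix.of_apply, single_apply, true_and]
    rcases eq_or_ne y b' with rfl | hy
    · simp [h]
    · have h1 : y.val ≠ b'.val := fun e => hy (Fin.ext e)
      have h2 : b'.val < n + 1 := b'.isLt
      rw [if_neg (by omega), if_neg (by omega), mul_zero, if_neg (fun e => hy e.symm)]
  · rw [Matrix.single_mul_apply_of_ne _ _ _ _ _ hx, single_apply, if_neg fun e => hx e.1.symm]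

theorem single_last_mul_cyc {a : Fin (n + 1)} (t : K) :
    single a (Fin.last n) t * cyc K n = single a 0 (t * (-1) ^ n) := by
  ext x y
  rcases eq_or_ne x a with rfl | hx
  · rw [Matrix.single_mul_apply_same]
    simp only [cyc, Matrix.of_apply, single_apply, true_and, Fin.val_last]
    rcases eq_or_ne y 0 with rfl | hy
    · simp
    · have h1 : y.val ≠ 0 := fun e => hy (Fin.ext e)
      have h2 := y.isLt
      rw [if_neg (by omega), if_neg (by simpa using h1), mul_zero, if_neg (fun e => hy e.symm)]
  · rw [Matrix.single_mul_apply_of_ne _ _ _ _ _ hx, single_apply, if_neg fun e => hx e.1.symm]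

/-- The cyclic element carries `(i + 1, i + 2)` to `(i, i + 1)`. -/
theorem conj_succ {w : SLn} (hw : (w : Matrix _ _ K) = cyc K n) {a b a' b' : Fin (n + 1)} (hab : a ≠ b)
    (hab' : a' ≠ b') (ha : a.val = a'.val + 1) (hb : b.val = b'.val + 1) (t : K) :
    w * SpecialLinearGroup.transvection hab t * w⁻¹ = SpecialLinearGroup.transvection hab' t := by
  rw [mul_inv_eq_iff_eq_mul]
  refine Subtype.ext ?_
  show (w : Matrix _ _ K) * (1 + single a b t) = (1 + single a' b' t) * (w : Matrix _ _ K)
  rw [hw, mul_add, add_mul, mul_one, one_mul, cyc_mul_single ha, single_mul_cyc hb]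

theorem conj_zero {w : SLn} (hw : (w : Matrix _ _ K) = cyc K n) {b b' : Fin (n + 1)}
    (hab : (0 : Fin (n + 1)) ≠ b) (hab' : Fin.last n ≠ b') (hb : b.val = b'.val + 1) (t : K) :
    w * SpecialLinearGroup.transvection hab t * w⁻¹ =
      SpecialLinearGroup.transvection hab' ((-1) ^ n * t) := by
  rw [mul_inv_eq_iff_eq_mul]
  refine Subtype.ext ?_
  show (w : Matrix _ _ K) * (1 + single 0 b t) = (1 + single (Fin.last n) b' ((-1) ^ n * t)) * (w : Matrix _ _ K)
  rw [hw, mul_add, add_mul, mul_one, one_mul, cyc_mul_single_zero, single_mul_cyc hb]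

theorem conj_wrap {w : SLn} (hw : (w : Matrix _ _ K) = cyc K n) {a a' : Fin (n + 1)}
    (hab : a ≠ 0) (hab' : a' ≠ Fin.last n) (ha : a.val = a'.val + 1) (t : K) :
    w * SpecialLinearGroup.transvection hab t * w⁻¹ =
      SpecialLinearGroup.transvection hab' ((-1) ^ n * t) := by
  rw [mul_inv_eq_iff_eq_mul]
  refine Subtype.ext ?_
  show (w : Matrix _ _ K) * (1 + single a 0 t) = (1 + single a' (Fin.last n) ((-1) ^ n * t)) * (w : Matrix _ _ K)
  rw [hw, mul_add, add_mul, mul_one, one_mul, cyc_mul_single ha, single_last_mul_cyc]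
  congr 2
  rw [mul_comm ((-1 : K) ^ n) t, mul_assoc, ← mul_pow]
  simp

/-- The first root subgroup and the cyclic element generate. -/
theorem eq_top_of_root (hn : 1 ≤ n) {H : Subgroup SLn} {w : SLn} (hw : (w : Matrix _ _ K) = cyc K n)
    (hwH : w ∈ H) {i₁ : Fin (n + 1)} (hi₁ : i₁.val = 1) (h01 : (0 : Fin (n + 1)) ≠ i₁)
    (hX : ∀ t : K, SpecialLinearGroup.transvection h01 t ∈ H) : H = ⊤ := by
  have hconj : ∀ g ∈ H, w * g * w⁻¹ ∈ H := fun g hg => mul_mem (mul_mem hwH hg) (inv_mem hwH)
  have hsq : (-1 : K) ^ n * (-1) ^ n = 1 := by rw [← mul_pow]; simp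
  -- the wrap-around root subgroup
  have hlast : ∀ (h : Fin.last n ≠ (0 : Fin (n + 1))) (t : K), SpecialLinearGroup.transvection h t ∈ H := by
    intro h t
    have := hconj _ (hX ((-1) ^ n * t))
    rwa [conj_zero hw h01 h (by rw [hi₁, Fin.val_zero]), ← mul_assoc, hsq, one_mul] at this
  have hsucc : ∀ (d : ℕ) (a b : Fin (n + 1)) (h : a ≠ b), b.val = a.val + 1 → n - 1 - a.val = d →
      ∀ t : K, SpecialLinearGroup.transvection h t ∈ H := by
    intro d
    induction d with
    | zero =>
      intro a b h hb hd t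
      have hbl : b = Fin.last n := Fin.ext (by have := b.isLt; rw [Fin.val_last]; omega)
      subst hbl
      have hl0 : Fin.last n ≠ (0 : Fin (n + 1)) := fun e => by
        have := congrArg Fin.val e
        rw [Fin.val_last, Fin.val_zero] at this
        omega
      have := hconj _ (hlast hl0 ((-1) ^ n * t))
      rwa [conj_wrap hw hl0 h (by rw [Fin.val_last] at hb ⊢; omega), ← mul_assoc, hsq, one_mul] at this
    | succ d ih =>
      intro a b h hb hd t
      have hne : (⟨a.val + 1, by omega⟩ : Fin (n + 1)) ≠ ⟨b.val + 1, by omega⟩ :=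
        fun e => by have := congrArg Fin.val e; simp only at this; omega
      have := hconj _ (ih ⟨a.val + 1, by omega⟩ ⟨b.val + 1, by omega⟩ hne (by simp only; omega)
        (by simp only; omega) t)
      rwa [conj_succ hw hne h rfl rfl] at this
  have hupper : ∀ (d : ℕ) (a b : Fin (n + 1)) (h : a ≠ b), b.val = a.val + d + 1 →
      ∀ t : K, SpecialLinearGroup.transvection h t ∈ H := by
    intro d
    induction d with
    | zero => intro a b h hb; exact hsucc _ a b h (by omega) rfl
    | succ d ih =>
      intro a b h hb t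
      let m : Fin (n + 1) := ⟨a.val + 1, by have := b.isLt; omega⟩
      have ham : a ≠ m := fun e => by have := congrArg Fin.val e; simp only [m] at this; omega
      have hmb : m ≠ b := fun e => by have := congrArg Fin.val e; simp only [m] at this; omega
      have e := CfsgLib.Classical.commutator_transvection_transvection ham hmb h t (1 : K)
      rw [mul_one] at e
      rw [← e, commutatorElement_def]
      exact mul_mem (mul_mem (mul_mem (hsucc _ a m ham rfl rfl t)
        (ih m b hmb (by simp only [m]; omega) 1)) (inv_mem (hsucc _ a m ham rfl rfl t)))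
        (inv_mem (ih m b hmb (by simp only [m]; omega) 1))
  have comm : ∀ {a m b : Fin (n + 1)} (ham : a ≠ m) (hmb : m ≠ b) (h : a ≠ b),
      (∀ t, SpecialLinearGroup.transvection ham t ∈ H) → (∀ t, SpecialLinearGroup.transvection hmb t ∈ H) →
      ∀ t : K, SpecialLinearGroup.transvection h t ∈ H := by
    intro a m b ham hmb h h1 h2 t
    have e := CfsgLib.Classical.commutator_transvection_transvection ham hmb h t (1 : K)
    rw [mul_one] at e
    rw [← e, commutatorElement_def]
    exact mul_mem (mul_mem (mul_mem (h1 t) (h2 1)) (inv_mem (h1 t))) (inv_mem (h2 1))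
  refine CfsgLib.Classical.SL_le_of_transvections H fun a b h => ?_
  rcases lt_or_gt_of_ne (fun e => h (Fin.ext e) : a.val ≠ b.val) with hlt | hgt
  · exact hupper (b.val - a.val - 1) a b h (by omega)
  · -- below the diagonal, through the wrap-around root
    have hzero : ∀ (a : Fin (n + 1)) (h : a ≠ 0), ∀ t : K, SpecialLinearGroup.transvection h t ∈ H := by
      intro a h
      by_cases hal : a = Fin.last n
      · subst hal; exact hlast h
      have hl0 : Fin.last n ≠ (0 : Fin (n + 1)) := fun e => by
        have := congrArg Fin.val e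
        rw [Fin.val_last, Fin.val_zero] at this
        omega
      refine comm hal hl0 h (hupper (n - a.val - 1) a _ hal ?_) (hlast hl0)
      have := a.isLt
      have : a.val ≠ n := fun e => hal (Fin.ext (by rw [e, Fin.val_last]))
      rw [Fin.val_last]
      omega
    by_cases hb0 : b = 0
    · subst hb0; exact hzero a h
    have ha0 : a ≠ 0 := fun e => by rw [e, Fin.val_zero] at hgt; omega
    refine comm ha0 (Ne.symm hb0) h (hzero a ha0) (hupper (b.val - 1) 0 b _ ?_)
    have : b.val ≠ 0 := fun e => hb0 (Fin.ext (by rw [e, Fin.val_zero]))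
    rw [Fin.val_zero]
    omega

/-- An additive subgroup stable under multiplication by squares is trivial or everything. -/
theorem eq_univ_of_squares [Finite K] (A : AddSubgroup K) {a : K} (ha : a ≠ 0) (haA : a ∈ A)
    (h : ∀ c x : K, x ∈ A → c ^ 2 * x ∈ A) (x : K) : x ∈ A := by
  by_cases h2 : (2 : K) = 0
  · haveI : CharP K 2 := CharTwo.of_one_ne_zero_of_two_eq_zero one_ne_zero h2
    obtain ⟨c, hc⟩ := (bijective_frobenius K 2).surjective (x / a)
    have := h c a haA
    rwa [show c ^ 2 = x / a from hc, div_mul_cancel₀ _ ha] at this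
  · have := A.sub_mem (h ((x / a + 1) / 2) a haA) (h ((x / a - 1) / 2) a haA)
    rwa [← sub_mul, show ((x / a + 1) / 2) ^ 2 - ((x / a - 1) / 2) ^ 2 = x / a by field_simp; ring,
      div_mul_cancel₀ _ ha] at this

theorem diag_conj {d : Fin (n + 1) → K} {g : SLn} (hg : (g : Matrix _ _ K) = diagonal d)
    {a b : Fin (n + 1)} (hab : a ≠ b) (t s : K) (hs : s * d b = d a * t) :
    g * SpecialLinearGroup.transvection hab t * g⁻¹ = SpecialLinearGroup.transvection hab s := by
  rw [mul_inv_eq_iff_eq_mul]
  refine Subtype.ext ?_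
  show (g : Matrix _ _ K) * (1 + single a b t) = (1 + single a b s) * (g : Matrix _ _ K)
  rw [hg, mul_add, add_mul, mul_one, one_mul, CfsgLib.Classical.diagonal_mul_single_left,
    CfsgLib.Classical.single_mul_diagonal_right, hs]

theorem closure_small [Fintype K] (hK : Fintype.card K ≤ 3) (hn : 1 ≤ n) (x w : SLn)
    (hx : (x : Matrix (Fin (n + 1)) (Fin (n + 1)) K) = Matrix.transvection 0 1 1) (hw : (w : Matrix _ _ K) = cyc K n) :
    Subgroup.closure ({x, w} : Set SLn) = ⊤ := by
  have h1 : (1 : Fin (n + 1)).val = 1 := by simp [Fin.val_one', Nat.mod_eq_of_lt (by omega : 1 < n + 1)]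
  have h01 : (0 : Fin (n + 1)) ≠ 1 := fun e => by rw [← e] at h1; simp at h1
  refine eq_top_of_root hn hw (Subgroup.subset_closure (Or.inr rfl)) h1 h01 fun t => ?_
  have hxt : x = SpecialLinearGroup.transvection h01 1 := Subtype.ext hx
  have hxH : SpecialLinearGroup.transvection h01 1 ∈ Subgroup.closure ({x, w} : Set SLn) := by
    rw [← hxt]; exact Subgroup.subset_closure (Or.inl rfl)
  classical
  have ht : t = 0 ∨ t = 1 ∨ t = -1 := by
    by_contra hc
    push Not at hc
    obtain ⟨h0, h1', h2⟩ := hc
    by_cases hne : (1 : K) = -1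
    · have hh : (2 : K) = 0 := by linear_combination hne
      haveI : CharP K 2 := CharTwo.of_one_ne_zero_of_two_eq_zero one_ne_zero hh
      have hdvd := (CharP.cast_eq_zero_iff K 2 _).1 (FiniteField.cast_card_eq_zero K)
      have hcard : ({0, 1, t} : Finset K).card = 3 := by
        rw [Finset.card_insert_of_notMem (by simp [Ne.symm h0]), Finset.card_pair (Ne.symm h1')]
      have := Finset.card_le_univ ({0, 1, t} : Finset K)
      omega
    · have hcard : ({0, 1, -1, t} : Finset K).card = 4 := by
        rw [Finset.card_insert_of_notMem (by simp [Ne.symm h0]),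
          Finset.card_insert_of_notMem (by simp [hne, Ne.symm h1']), Finset.card_pair (Ne.symm h2)]
      have := Finset.card_le_univ ({0, 1, -1, t} : Finset K)
      omega
  rcases ht with rfl | rfl | rfl
  · rw [SpecialLinearGroup.transvection_coeff_zero]; exact one_mem _
  · exact hxH
  · rw [← SpecialLinearGroup.transvection_inv]; exact inv_mem hxH

theorem closure_large [Fintype K] (hK : 3 < Fintype.card K) (hn : 1 ≤ n) (k : Kˣ)
    (hk : ∀ u : Kˣ, u ∈ Subgroup.zpowers k) (h x w : SLn)
    (hh : (h : Matrix (Fin (n + 1)) (Fin (n + 1)) K) = diagonal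
      (fun i => if i.val = 0 then (k : K) else if i.val = 1 then ((k⁻¹ : Kˣ) : K) else 1))
    (hx : (x : Matrix (Fin (n + 1)) (Fin (n + 1)) K) = Matrix.transvection 0 1 1) (hw : (w : Matrix _ _ K) = cyc K n) :
    Subgroup.closure ({h, x * w} : Set SLn) = ⊤ := by
  classical
  set H := Subgroup.closure ({h, x * w} : Set SLn)
  have hhH : h ∈ H := Subgroup.subset_closure (Or.inl rfl)
  have hbH : x * w ∈ H := Subgroup.subset_closure (Or.inr rfl)
  have h1 : (1 : Fin (n + 1)).val = 1 := by simp [Fin.val_one', Nat.mod_eq_of_lt (by omega : 1 < n + 1)]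
  have h01 : (0 : Fin (n + 1)) ≠ 1 := fun e => by rw [← e] at h1; simp at h1
  have hxt : x = SpecialLinearGroup.transvection h01 1 := Subtype.ext hx
  have hord : orderOf k = Fintype.card K - 1 := by
    rw [orderOf_eq_card_of_forall_mem_zpowers hk, Nat.card_eq_fintype_card, Fintype.card_units]
  have hk2 : (k : K) ^ 2 ≠ 1 := fun e => by
    have := Nat.le_of_dvd two_pos (orderOf_dvd_of_pow_eq_one (Units.ext (by simpa using e) : k ^ 2 = 1))
    omega
  have hk1 : (k : K) ≠ 1 := fun e => hk2 (by rw [e, one_pow])
  have hh' : ∀ t, h * SpecialLinearGroup.transvection h01 t * h⁻¹ =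
      SpecialLinearGroup.transvection h01 ((k : K) ^ 2 * t) := fun t => by
    refine diag_conj hh h01 t _ ?_
    simp only [Fin.val_zero, h1, if_true, one_ne_zero, if_false, Units.val_inv_eq_inv_val]
    field_simp
  -- the conjugate of `h` by the cyclic element
  let d : Fin (n + 1) → K := fun i =>
    if i.val = n then (k : K) else if i.val = 0 then ((k⁻¹ : Kˣ) : K) else 1
  have hwh : (w : Matrix _ _ K) * (h : Matrix _ _ K) = diagonal d * (w : Matrix _ _ K) := by
    rw [hw, hh]
    ext i j
    rw [mul_diagonal, diagonal_mul]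
    simp only [cyc, of_apply, d]
    have := i.isLt
    split_ifs <;> first | (exfalso; omega) | ring1 | simp_all
  have hd : ∀ i, ((w * h * w⁻¹ : SLn) : Matrix _ _ K) i = diagonal d i := by
    intro i
    have e : ((w * h * w⁻¹ : SLn) : Matrix _ _ K) = diagonal d := by
      show (w : Matrix (Fin (n + 1)) (Fin (n + 1)) K) * (h : Matrix (Fin (n + 1)) (Fin (n + 1)) K) * ((w⁻¹ : SLn) : Matrix (Fin (n + 1)) (Fin (n + 1)) K) = diagonal d
      have e1 : (w : Matrix (Fin (n + 1)) (Fin (n + 1)) K) * ((w⁻¹ : SLn) : Matrix (Fin (n + 1)) (Fin (n + 1)) K) = 1 := congrArg Subtype.val (mul_inv_cancel w)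
      rw [hwh, mul_assoc, e1, mul_one]
    rw [e]
  set d' := w * h * w⁻¹
  have hd'mat : (d' : Matrix _ _ K) = diagonal d := funext hd
  have heH : x * d' * x⁻¹ ∈ H := by
    rw [show x * d' * x⁻¹ = (x * w) * h * (x * w)⁻¹ by simp only [d']; group]
    exact mul_mem (mul_mem hbH hhH) (inv_mem hbH)
  have hstart : ∃ a : K, a ≠ 0 ∧ SpecialLinearGroup.transvection h01 a ∈ H := by
    rcases Nat.lt_or_ge n 2 with hn2 | hn2
    · refine ⟨(k : K) ^ 2 - 1, sub_ne_zero.2 hk2, ?_⟩
      have hd1 : d' = h⁻¹ := by
        refine eq_inv_of_mul_eq_one_left (Subtype.ext ?_)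
        show (d' : Matrix (Fin (n + 1)) (Fin (n + 1)) K) * (h : Matrix (Fin (n + 1)) (Fin (n + 1)) K) = 1
        rw [hd'mat, hh, diagonal_mul_diagonal, ← diagonal_one]
        refine congrArg diagonal (funext fun i => ?_)
        have := i.isLt
        simp only [d]
        split_ifs <;> first | (exfalso; omega) | simp
      have : h * (x * d' * x⁻¹) ∈ H := mul_mem hhH heH
      rwa [hd1, hxt, show h * (SpecialLinearGroup.transvection h01 1 * h⁻¹ *
        (SpecialLinearGroup.transvection h01 1)⁻¹) =
        (h * SpecialLinearGroup.transvection h01 1 * h⁻¹) * (SpecialLinearGroup.transvection h01 1)⁻¹ by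
          group, hh', SpecialLinearGroup.transvection_inv, ← SpecialLinearGroup.transvection_add,
        mul_one, ← sub_eq_add_neg] at this
    · refine ⟨((k : K) ^ 2 - 1) * (1 - ((k⁻¹ : Kˣ) : K)),
        mul_ne_zero (sub_ne_zero.2 hk2) (sub_ne_zero.2 fun e => hk1 ?_), ?_⟩
      · rw [Units.val_inv_eq_inv_val] at e
        exact inv_eq_one.1 e.symm
      have hdc : ∀ t, d' * SpecialLinearGroup.transvection h01 t * d'⁻¹ =
          SpecialLinearGroup.transvection h01 (((k⁻¹ : Kˣ) : K) * t) := fun t => by
        refine diag_conj hd'mat h01 t _ ?_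
        simp only [d, Fin.val_zero, h1]
        simp [show ¬ (0 = n) by omega, show ¬ (1 = n) by omega]
      have hcomm : Commute h d' := by
        refine Subtype.ext ?_
        show (h : Matrix (Fin (n + 1)) (Fin (n + 1)) K) * (d' : Matrix (Fin (n + 1)) (Fin (n + 1)) K) = (d' : Matrix (Fin (n + 1)) (Fin (n + 1)) K) * (h : Matrix (Fin (n + 1)) (Fin (n + 1)) K)
        rw [hd'mat, hh, diagonal_mul_diagonal, diagonal_mul_diagonal]
        exact congrArg diagonal (funext fun i => mul_comm _ _)
      set X := SpecialLinearGroup.transvection h01 (1 : K)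
      have key : h * (x * d' * x⁻¹) * h⁻¹ * (x * d' * x⁻¹)⁻¹ =
          (h * X * h⁻¹) * (d' * ((h * X * h⁻¹)⁻¹ * X) * d'⁻¹) * X⁻¹ := by
        rw [hxt]
        have e : h * d' = d' * h := hcomm.eq
        calc h * (X * d' * X⁻¹) * h⁻¹ * (X * d' * X⁻¹)⁻¹
            = (h * X * h⁻¹) * (h * d') * X⁻¹ * h⁻¹ * (X * d'⁻¹ * X⁻¹) := by group
          _ = _ := by rw [e]; group
      have hmem := mul_mem (mul_mem (mul_mem hhH heH) (inv_mem hhH)) (inv_mem heH)
      rw [key, hh', SpecialLinearGroup.transvection_inv, ← SpecialLinearGroup.transvection_add, hdc,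
        SpecialLinearGroup.transvection_inv, ← SpecialLinearGroup.transvection_add,
        ← SpecialLinearGroup.transvection_add] at hmem
      convert hmem using 2
      ring
  obtain ⟨a, ha, haH⟩ := hstart
  let A : AddSubgroup K :=
    { carrier := {t | SpecialLinearGroup.transvection h01 t ∈ H}
      zero_mem' := by
        show SpecialLinearGroup.transvection h01 (0 : K) ∈ H
        rw [SpecialLinearGroup.transvection_coeff_zero]; exact one_mem _
      add_mem' := fun {s t} hs ht => by
        show SpecialLinearGroup.transvection h01 (s + t) ∈ H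
        rw [SpecialLinearGroup.transvection_add]; exact mul_mem hs ht
      neg_mem' := fun {s} hs => by
        show SpecialLinearGroup.transvection h01 (-s) ∈ H
        rw [← SpecialLinearGroup.transvection_inv]; exact inv_mem hs }
  have hpow : ∀ (m : ℕ) (t : K), t ∈ A → ((k : K) ^ 2) ^ m * t ∈ A := by
    intro m
    induction m with
    | zero => intro t ht; simpa using ht
    | succ m ih =>
      intro t ht
      have h2 : (k : K) ^ 2 * (((k : K) ^ 2) ^ m * t) ∈ A := by
        show SpecialLinearGroup.transvection h01 _ ∈ H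
        rw [← hh']
        exact mul_mem (mul_mem hhH (ih t ht)) (inv_mem hhH)
      rwa [← mul_assoc, ← pow_succ'] at h2
  have hall := eq_univ_of_squares A ha haH fun c t ht => by
    rcases eq_or_ne c 0 with rfl | hc
    · simp [A.zero_mem]
    · obtain ⟨m, hm⟩ : ∃ m : ℕ, k ^ m = Units.mk0 c hc :=
        ((isOfFinOrder_of_finite k).mem_powers_iff_mem_zpowers).2 (hk _)
      have := hpow m t ht
      rwa [← pow_mul, mul_comm 2 m, pow_mul, ← Units.val_pow_eq_pow_val k m, hm] at this
  refine eq_top_of_root hn hw ?_ h1 h01 hall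
  have := mul_mem (inv_mem (hxt ▸ hall 1 : x ∈ H)) hbH
  rwa [inv_mul_cancel_left] at this

end CfsgLib.SLTwoGen
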